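import Cfsg.Agent.Lib.ChrP2.PGroup

/-!
A normal subgroup with component maps permuted by a `p`-group `P` with `[P : P'] = p²` is abelian
when there are at least two components.
-/

set_option autoImplicit false
set_option linter.style.haveILetI false
set_option linter.unusedSectionVars false

namespace Cfsg.Agent.Lib.ChrP2.Components

open Subgroup
open scoped commutatorElement

variable {P : Type*} [Group P] [Finite P] {p : ℕ} [hp : Fact p.Prime] {ι : Type*}

/-- Component maps on `Q`. -/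
structure Comps (Q : Subgroup P) (act : P → ι → ι) (π : ι → Q →* Q) : Prop where
  act_one : ∀ i, act 1 i = i
  act_mul : ∀ a b i, act (a * b) i = act a (act b i)
  act_Q : ∀ q ∈ Q, ∀ i, act q i = i
  idem : ∀ i q, π i (π i q) = π i q
  orth : ∀ i j q, i ≠ j → π i (π j q) = 1
  ext : ∀ q, (∀ i, π i q = 1) → q = 1
  glue : ∀ f : ι → Q, ∃ q, ∀ i, π i q = π i (f i)
  equi : ∀ (z : P) (q q' : Q) i, (q' : P) = z * q * z⁻¹ →
    ((π (act z i) q' : Q) : P) = z * (π i q : Q) * z⁻¹
  nontriv : ∀ i, ∃ q, π i q ≠ 1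

/-- A range of the abelianisation map of order at most `p` forces commutativity. -/
theorem comm_of_abelianization_le (hP : IsPGroup p P) (R : Subgroup P)
    (h : Nat.card (Abelianization R) ≤ p) : ∀ a ∈ R, ∀ b ∈ R, a * b = b * a := by
  have hR : IsPGroup p R := hP.to_subgroup R
  have hlt : Nat.card R < p ^ 2 := by
    by_contra! hc
    have h1 : p ^ 2 ≤ Nat.card (Abelianization R) := PGroup.index_commutator_ge hR hc
    have := hp.out.one_lt
    nlinarith
  obtain ⟨n, hn⟩ := IsPGroup.iff_card.1 hR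
  rw [hn] at hlt
  have hn' : n < 2 := (Nat.pow_lt_pow_iff_right hp.out.one_lt).1 hlt
  have hcyc : IsCyclic R := by
    rcases (show n = 0 ∨ n = 1 by omega) with rfl | rfl
    · rw [pow_zero] at hn
      haveI := (Nat.card_eq_one_iff_unique.1 hn).1
      exact isCyclic_of_subsingleton
    · rw [pow_one] at hn
      exact isCyclic_of_prime_card hn
  intro a ha b hb
  letI := hcyc.commGroup
  exact congrArg Subtype.val (mul_comm (⟨a, ha⟩ : R) ⟨b, hb⟩)

theorem card_abelianization_ge (hP : IsPGroup p P) (R : Subgroup P) (hR : R ≠ ⊥) :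
    p ≤ Nat.card (Abelianization R) := by
  haveI : Nontrivial R := (nontrivial_iff_ne_bot R).2 hR
  have hne : commutator R ≠ ⊤ := fun h => by
    have h2 := PGroup.sup_commutator_eq_top (hP.to_subgroup R) (H := ⊥) (by rw [bot_sup_eq, h])
    exact bot_ne_top h2
  exact Nat.le_of_dvd Nat.card_pos (PGroup.index_ne_one_dvd (hP.to_subgroup R) hne)

/-- In a nilpotent group `[A, P] < A` for a nontrivial normal subgroup `A`. -/
theorem not_le_commutator_top (hP : IsPGroup p P) (A : Subgroup P) (hA : A ≠ ⊥) :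
    ¬ A ≤ ⁅A, (⊤ : Subgroup P)⁆ := by
  haveI := hP.isNilpotent
  intro h
  obtain ⟨n, hn⟩ := Subgroup.nilpotent_iff_lowerCentralSeries.1 ‹Group.IsNilpotent P›
  have key : ∀ k, A ≤ (⊤ : Subgroup P).lowerCentralSeries k := by
    intro k
    induction k with
    | zero => simp
    | succ k ih => exact h.trans (commutator_mono ih le_rfl)
  exact hA (le_bot_iff.1 (hn ▸ key n))

variable {Q : Subgroup P} {act : P → ι → ι} {π : ι → Q →* Q}

theorem Comps.range_ne_bot (c : Comps Q act π) (i : ι) :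
    (Q.subtype.comp (π i)).range ≠ ⊥ := by
  intro h
  obtain ⟨q, hq⟩ := c.nontriv i
  exact hq (Subtype.ext (mem_bot.1 (h.le ⟨q, rfl⟩)))

theorem Comps.comm_of_range_comm (c : Comps Q act π)
    (h : ∀ i, ∀ a ∈ (Q.subtype.comp (π i)).range, ∀ b ∈ (Q.subtype.comp (π i)).range, a * b = b * a) :
    ∀ a ∈ Q, ∀ b ∈ Q, a * b = b * a := by
  intro a ha b hb
  have key : ((⟨a, ha⟩ : Q) * ⟨b, hb⟩) * ((⟨b, hb⟩ : Q) * ⟨a, ha⟩)⁻¹ = 1 := c.ext _ fun i => by
    have := h i _ ⟨⟨a, ha⟩, rfl⟩ _ ⟨⟨b, hb⟩, rfl⟩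
    rw [map_mul, map_inv, map_mul, map_mul, mul_inv_eq_one]
    exact Subtype.ext this
  exact congrArg Subtype.val (mul_inv_eq_one.1 key)

/-- The part of `Q` supported in `s`. -/
def supp (π : ι → Q →* Q) (s : Set ι) : Subgroup P :=
  (⨅ i ∈ sᶜ, (π i).ker).map Q.subtype

theorem mem_supp {s : Set ι} {q : Q} : (q : P) ∈ supp π s ↔ ∀ i, i ∉ s → π i q = 1 := by
  simp only [supp, mem_map, coe_subtype, SetLike.coe_eq_coe, exists_eq_right, mem_iInf,
    MonoidHom.mem_ker, Set.mem_compl_iff]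

theorem supp_le (s : Set ι) : supp π s ≤ Q := map_subtype_le _

theorem Comps.supp_normal (c : Comps Q act π) [Q.Normal] {s : Set ι}
    (hs : ∀ z i, i ∈ s → act z i ∈ s) : (supp π s).Normal := by
  refine ⟨fun n hn z => ?_⟩
  have hnQ := supp_le s hn
  rw [← Subgroup.coe_mk Q n hnQ, mem_supp] at hn
  show ((⟨z * n * z⁻¹, Normal.conj_mem ‹_› n hnQ z⟩ : Q) : P) ∈ _
  rw [mem_supp]
  intro i hi
  have hi' : act z⁻¹ i ∉ s := fun h => hi (by
    have := hs z _ h
    rwa [← c.act_mul, mul_inv_cancel, c.act_one] at this)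
  have := c.equi z ⟨n, hnQ⟩ ⟨_, Normal.conj_mem ‹_› n hnQ z⟩ (act z⁻¹ i) rfl
  rw [← c.act_mul, mul_inv_cancel, c.act_one, hn _ hi'] at this
  exact Subtype.ext (by simpa using this)

theorem Comps.supp_ne_bot (c : Comps Q act π) {s : Set ι} {i : ι} (hi : i ∈ s) : supp π s ≠ ⊥ := by
  intro h
  obtain ⟨q, hq⟩ := c.nontriv i
  refine hq (Subtype.ext (mem_bot.1 (h.le ?_)))
  rw [mem_supp]
  exact fun j hj => c.orth j i q fun e => hj (e ▸ hi)

theorem Comps.supp_inter (c : Comps Q act π) {s : Set ι} {x : P} (h1 : x ∈ supp π s)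
    (h2 : x ∈ supp π sᶜ) : x = 1 := by
  have hx := supp_le s h1
  rw [← Subgroup.coe_mk Q x hx, mem_supp] at h1 h2
  have := c.ext ⟨x, hx⟩ fun i => by
    by_cases hi : i ∈ s
    · exact h2 i fun h => h hi
    · exact h1 i hi
  exact congrArg Subtype.val this

theorem Comps.exists_split (c : Comps Q act π) (s : Set ι) {x : P} (hx : x ∈ Q) :
    ∃ a ∈ supp π s, ∃ b ∈ supp π sᶜ, x = a * b := by
  classical
  obtain ⟨a, ha⟩ := c.glue fun i => if i ∈ s then ⟨x, hx⟩ else 1
  refine ⟨a, ?_, ((a⁻¹ * ⟨x, hx⟩ : Q) : P), ?_, by simp⟩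
  · rw [mem_supp]
    intro i hi
    rw [ha i, if_neg hi, map_one]
  · rw [mem_supp]
    intro i hi
    have hi' : i ∈ s := not_not.1 hi
    rw [map_mul, map_inv, ha i, if_pos hi', inv_mul_cancel]

theorem Comps.supp_le_commutator (c : Comps Q act π) (hP : IsPGroup p P) [Q.Normal]
    (hQD : commutator P ≤ Q) (hDQ : (commutator P).relIndex Q = p) {y : P}
    (hgen : Q ⊔ zpowers y = ⊤) {s : Set ι} {i : ι} (hi : i ∈ s)
    (hs : ∀ z i, i ∈ s → act z i ∈ s) : supp π sᶜ ≤ commutator P := by
  have hsc : ∀ z j, j ∈ sᶜ → act z j ∈ sᶜ := fun z j hj h => hj (by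
    have := hs z⁻¹ _ h
    rwa [← c.act_mul, inv_mul_cancel, c.act_one] at this)
  haveI := c.supp_normal hs
  haveI := c.supp_normal hsc
  set A := supp π s with hAdef
  set B := supp π sᶜ with hBdef
  set L := ⁅A, (⊤ : Subgroup P)⁆ ⊔ B with hLdef
  have hA' : ⁅A, (⊤ : Subgroup P)⁆ ≤ A := commutator_le_left _ _
  haveI : L.Normal := Subgroup.sup_normal _ _
  have hL : ∀ q ∈ Q, ∀ z : P, ⁅q, z⁆ ∈ L := by
    intro q hq z
    obtain ⟨a, ha, b, hb, rfl⟩ := c.exists_split s hq
    have h1 : ⁅a * b, z⁆ = a * ⁅b, z⁆ * a⁻¹ * ⁅a, z⁆ := by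
      simp only [commutatorElement_def]; group
    rw [h1]
    refine L.mul_mem (mem_sup_right ?_) (mem_sup_left (commutator_mem_commutator ha (mem_top z)))
    exact Normal.conj_mem ‹B.Normal› _ (commutator_le_left B ⊤ (commutator_mem_commutator hb (mem_top z))) a
  have hDL : commutator P ≤ L :=
    PGroup.commutator_le_of_gen hgen (fun q hq => hL q hq y) (fun q hq r _ => hL q hq r)
  have hLQ : L ≤ Q := sup_le (hA'.trans (supp_le _)) (supp_le _)
  have hne : ¬ Q ≤ L := by
    intro h
    refine not_le_commutator_top hP A (c.supp_ne_bot hi) fun a ha => ?_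
    have hmem : a ∈ ((⁅A, (⊤ : Subgroup P)⁆ ⊔ B : Subgroup P) : Set P) := h (supp_le _ ha)
    rw [Subgroup.mul_normal] at hmem
    obtain ⟨u, hu, b, hb, rfl⟩ := hmem
    have hbA : b ∈ A := by
      have := A.mul_mem (A.inv_mem (hA' hu)) ha
      rwa [inv_mul_cancel_left] at this
    show u * b ∈ ⁅A, (⊤ : Subgroup P)⁆
    rw [c.supp_inter hbA hb, mul_one]
    exact hu
  have h := relIndex_mul_relIndex _ _ _ hDL hLQ
  rw [hDQ] at h
  rcases (Nat.dvd_prime hp.out).1 (Dvd.intro _ h) with h' | h'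
  · exact (le_sup_right : B ≤ L).trans (relIndex_eq_one.1 h')
  · rw [h'] at h
    have : L.relIndex Q = 1 := by
      have := hp.out.pos
      nlinarith
    exact absurd (relIndex_eq_one.1 this) hne

/-- The `P`-action on the components is transitive. -/
theorem Comps.exists_act (c : Comps Q act π) (hP : IsPGroup p P) [Q.Normal]
    (hQD : commutator P ≤ Q) (hDQ : (commutator P).relIndex Q = p) {y : P}
    (hgen : Q ⊔ zpowers y = ⊤) (i j : ι) : ∃ z, act z i = j := by
  by_contra hno
  let s : Set ι := Set.range fun z => act z i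
  have hs : ∀ z k, k ∈ s → act z k ∈ s := by
    rintro z _ ⟨w, rfl⟩
    exact ⟨z * w, c.act_mul z w i⟩
  have hj : j ∈ sᶜ := fun ⟨z, hz⟩ => hno ⟨z, hz⟩
  have hsc : ∀ z k, k ∈ sᶜ → act z k ∈ sᶜ := fun z k hk h => hk (by
    have := hs z⁻¹ _ h
    rwa [← c.act_mul, inv_mul_cancel, c.act_one] at this)
  have h1 := c.supp_le_commutator hP hQD hDQ hgen (s := s) (i := i) ⟨1, c.act_one i⟩ hs
  have h2 := c.supp_le_commutator hP hQD hDQ hgen (s := sᶜ) (i := j) hj hsc
  rw [compl_compl] at h2
  have hle : Q ≤ commutator P := fun x hx => by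
    obtain ⟨a, ha, b, hb, rfl⟩ := c.exists_split s hx
    exact mul_mem (h2 ha) (h1 hb)
  rw [relIndex_eq_one.2 hle] at hDQ
  exact hp.out.one_lt.ne hDQ

/-- The case `Q ≠ ⊤`. -/
theorem Comps.comm_of_proper (c : Comps Q act π) [Nontrivial ι] (hP : IsPGroup p P) [Q.Normal]
    (hQi : Q.index = p) (hQD : commutator P ≤ Q) (hDQ : (commutator P).relIndex Q = p) :
    ∀ a ∈ Q, ∀ b ∈ Q, a * b = b * a := by
  obtain ⟨y, hy⟩ : ∃ y, y ∉ Q := by
    by_contra! hc
    rw [index_eq_one.2 (eq_top_iff.2 fun x _ => hc x)] at hQi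
    exact hp.out.one_lt.ne hQi
  have hgen := PGroup.sup_zpowers_eq_top hQi hy
  have hyp : y ^ p ∈ Q := hQi ▸ Q.pow_index_mem y
  refine c.comm_of_range_comm fun i => ?_
  set R := (Q.subtype.comp (π i)).range with hR
  have hnofix : ∀ k : ℕ, 0 < k → k < p → act (y ^ k) i ≠ i := by
    intro k hk hkp hfix
    obtain ⟨j, hj⟩ := exists_ne i
    obtain ⟨z, hz⟩ := c.exists_act hP hQD hDQ hgen i j
    let St : Subgroup P :=
      { carrier := {w | act w i = i}
        one_mem' := c.act_one i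
        mul_mem' := fun {a b} (ha : act a i = i) (hb : act b i = i) => by
          show act (a * b) i = i
          rw [c.act_mul, hb, ha]
        inv_mem' := fun {a} (ha : act a i = i) => by
          show act a⁻¹ i = i
          conv_lhs => rw [← ha]
          rw [← c.act_mul, inv_mul_cancel, c.act_one] }
    have hQS : Q ≤ St := fun q hq => c.act_Q q hq i
    have hyS : y ∈ St := by
      have h1 : y ^ k ∈ St := hfix
      have h2 : y ^ p ∈ St := hQS hyp
      have hcop : Nat.gcd k p = 1 := Nat.Coprime.symm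
        (hp.out.coprime_iff_not_dvd.2 fun hd => absurd (Nat.le_of_dvd hk hd) (not_le.2 hkp))
      have := Nat.gcd_eq_gcd_ab k p
      rw [hcop] at this
      have h3 : y = (y ^ k) ^ Nat.gcdA k p * (y ^ p) ^ Nat.gcdB k p := by
        rw [← zpow_natCast y k, ← zpow_natCast y p, ← zpow_mul, ← zpow_mul, ← zpow_add, ← this]
        simp
      rw [h3]
      exact St.mul_mem (St.zpow_mem h1 _) (St.zpow_mem h2 _)
    exact hj (hz ▸ (hgen.ge.trans (sup_le hQS (zpowers_le.2 hyS)) (mem_top z)))
  let comp : Q →* R := ((Q.subtype.comp (π i))).rangeRestrict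
  let conjHom : ℕ → (Q →* Q) := fun k => MonoidHom.mk'
    (fun q => ⟨y ^ k * q * (y ^ k)⁻¹, Normal.conj_mem ‹_› _ q.2 _⟩)
    (fun a b => Subtype.ext (by simp [mul_assoc]))
  let f : ℕ → (Q →* Abelianization R) := fun k => (Abelianization.of.comp comp).comp (conjHom k)
  let φ : Q →* Abelianization R := ∏ k ∈ Finset.range p, f k
  have hφ : ∀ q, φ q = ∏ k ∈ Finset.range p, f k q := fun q => MonoidHom.finsetProd_apply _ _ _
  have hsurj : Function.Surjective φ := by
    intro w
    obtain ⟨r, rfl⟩ := QuotientGroup.mk'_surjective (commutator R) w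
    obtain ⟨q, hq⟩ := r.2
    refine ⟨π i q, ?_⟩
    rw [hφ, Finset.prod_eq_single_of_mem 0 (Finset.mem_range.2 hp.out.pos)]
    · show Abelianization.of (comp (conjHom 0 (π i q))) = _
      congr 1
      refine Subtype.ext ?_
      show ((π i (conjHom 0 (π i q)) : Q) : P) = r
      rw [← hq, show conjHom 0 (π i q) = π i q from Subtype.ext (by simp [conjHom]), c.idem]
      rfl
    · intro k hk hk0
      show Abelianization.of (comp (conjHom k (π i q))) = 1
      have h1 : comp (conjHom k (π i q)) = 1 := Subtype.ext <| by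
        show ((π i (conjHom k (π i q)) : Q) : P) = 1
        have h2 := c.equi (y ^ k) (π i q) (conjHom k (π i q)) (act (y ^ k)⁻¹ i) rfl
        rw [← c.act_mul, mul_inv_cancel, c.act_one,
          c.orth _ i q fun e => hnofix k (Nat.pos_of_ne_zero hk0) (Finset.mem_range.1 hk) (by
            conv_lhs => rw [← e]
            rw [← c.act_mul, mul_inv_cancel, c.act_one])] at h2
        simpa using h2
      rw [h1, map_one]
  have hstep : ∀ q : Q, φ (conjHom 1 q) = φ q := by
    intro q
    have hshift : ∀ k, f k (conjHom 1 q) = f (k + 1) q := fun k => by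
      show Abelianization.of (comp (conjHom k (conjHom 1 q))) = _
      exact congrArg (fun t => Abelianization.of (comp t))
        (Subtype.ext (by simp [conjHom, pow_succ, mul_assoc]))
    have hper : f p q = f 0 q := by
      show Abelianization.of (comp (conjHom p q)) = Abelianization.of (comp (conjHom 0 q))
      rw [show conjHom p q = (⟨y ^ p, hyp⟩ : Q) * q * (⟨y ^ p, hyp⟩ : Q)⁻¹ from rfl,
        show conjHom 0 q = q from Subtype.ext (by simp [conjHom])]
      simp only [map_mul, map_inv]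
      rw [mul_comm, inv_mul_cancel_left]
    rw [hφ, hφ, Finset.prod_congr rfl fun k _ => hshift k]
    have h1 := Finset.prod_range_succ' (fun k => f k q) p
    rw [Finset.prod_range_succ, hper] at h1
    exact (mul_right_cancel h1).symm
  let L : Subgroup P := φ.ker.map Q.subtype
  have hmemL : ∀ q : Q, (q : P) ∈ L ↔ φ q = 1 := fun q => by simp [L]
  haveI hLn : L.Normal := by
    refine PGroup.normal_of_gen hgen ?_ ?_
    · intro r hr
      refine mem_normalizer_iff.2 fun x => ?_
      constructor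
      · rintro ⟨q, hq, rfl⟩
        exact ⟨⟨r, hr⟩ * q * ⟨r, hr⟩⁻¹, (MonoidHom.normal_ker φ).conj_mem _ hq _, rfl⟩
      · rintro ⟨q, hq, hqx⟩
        refine ⟨⟨r, hr⟩⁻¹ * q * (⟨r, hr⟩⁻¹)⁻¹, (MonoidHom.normal_ker φ).conj_mem _ hq _, ?_⟩
        have hqx' : (q : P) = r * x * r⁻¹ := hqx
        simp [hqx', mul_assoc]
    · refine mem_normalizer_iff.2 fun x => ⟨?_, ?_⟩
      · rintro ⟨q, hq, rfl⟩
        refine ⟨conjHom 1 q, ?_, by simp [conjHom]⟩
        show φ _ = 1
        rw [hstep]; exact hq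
      · rintro ⟨q, hq, hqx⟩
        have hqx' : (q : P) = y * x * y⁻¹ := hqx
        have hxQ : x ∈ Q := by
          have := Normal.conj_mem ‹Q.Normal› _ q.2 y⁻¹
          simpa [hqx', mul_assoc] using this
        refine ⟨⟨x, hxQ⟩, ?_, rfl⟩
        show φ _ = 1
        rw [← hstep, show conjHom 1 ⟨x, hxQ⟩ = q from Subtype.ext (by simp [conjHom, hqx'])]
        exact hq
  have hDL : commutator P ≤ L := by
    refine PGroup.commutator_le_of_gen hgen (fun q hq => ?_) (fun q hq r hr => ?_)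
    · have he : ⁅q, y⁆ = (((⟨q, hq⟩ : Q) * conjHom 1 (⟨q, hq⟩ : Q)⁻¹ : Q) : P) := by
        simp [conjHom, commutatorElement_def, mul_assoc]
      rw [he, hmemL, map_mul, hstep, map_inv, mul_inv_cancel]
    · have he : ⁅q, r⁆ = ((⁅(⟨q, hq⟩ : Q), ⟨r, hr⟩⁆ : Q) : P) := by simp [commutatorElement_def]
      rw [he, hmemL, map_commutatorElement, commutatorElement_eq_one_iff_mul_comm]
      exact mul_comm _ _
  refine comm_of_abelianization_le hP R ?_
  have hker : φ.ker.index = Nat.card (Abelianization R) := by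
    rw [index_ker, MonoidHom.range_eq_top.2 hsurj, card_top]
  rw [← hker, ← hDQ]
  refine Nat.le_of_dvd (Nat.pos_of_ne_zero (by rw [hDQ]; exact hp.out.ne_zero)) ?_
  have h := relIndex_dvd_of_le_left Q hDL
  rwa [show L.relIndex Q = φ.ker.index by
    show ((φ.ker.map Q.subtype).subgroupOf Q).index = _
    rw [show (φ.ker.map Q.subtype).subgroupOf Q = φ.ker from
      comap_map_eq_self_of_injective Q.subtype_injective _]] at h

/-- The case `Q = ⊤`. -/
theorem Comps.comm_of_top (c : Comps Q act π) [Nontrivial ι] (hP : IsPGroup p P)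
    (hD : (commutator P).index = p ^ 2) (hQ : Q = ⊤) : ∀ a ∈ Q, ∀ b ∈ Q, a * b = b * a := by
  classical
  refine c.comm_of_range_comm fun i => ?_
  obtain ⟨j, hj⟩ := exists_ne i
  set Ri := (Q.subtype.comp (π i)).range with hRi
  set Rj := (Q.subtype.comp (π j)).range with hRj
  refine comm_of_abelianization_le hP Ri ?_
  let incl : P →* Q := MonoidHom.mk' (fun x => ⟨x, hQ ▸ mem_top x⟩) fun _ _ => rfl
  let ψ : P →* Abelianization Ri × Abelianization Rj :=
    (MonoidHom.prod (Abelianization.of.comp (Q.subtype.comp (π i)).rangeRestrict)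
      (Abelianization.of.comp (Q.subtype.comp (π j)).rangeRestrict)).comp incl
  have hψ : Function.Surjective ψ := by
    rintro ⟨u, v⟩
    obtain ⟨r, rfl⟩ := QuotientGroup.mk'_surjective (commutator Ri) u
    obtain ⟨s, rfl⟩ := QuotientGroup.mk'_surjective (commutator Rj) v
    obtain ⟨q, hq⟩ := r.2
    obtain ⟨q', hq'⟩ := s.2
    refine ⟨((π i q * π j q' : Q) : P), ?_⟩
    have h1 : (Q.subtype.comp (π i)).rangeRestrict (π i q * π j q') = r := Subtype.ext <| by
      show ((π i (π i q * π j q') : Q) : P) = r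
      rw [map_mul, c.idem, c.orth i j q' hj.symm, mul_one, ← hq]
      rfl
    have h2 : (Q.subtype.comp (π j)).rangeRestrict (π i q * π j q') = s := Subtype.ext <| by
      show ((π j (π i q * π j q') : Q) : P) = s
      rw [map_mul, c.idem, c.orth j i q hj, one_mul, ← hq']
      rfl
    exact Prod.ext (congrArg Abelianization.of h1) (congrArg Abelianization.of h2)
  have hle : commutator P ≤ ψ.ker := Abelianization.commutator_subset_ker ψ
  have h3 : ψ.ker.index = Nat.card (Abelianization Ri) * Nat.card (Abelianization Rj) := by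
    rw [index_ker, MonoidHom.range_eq_top.2 hψ, card_top, Nat.card_prod]
  have h4 := Nat.le_of_dvd (Nat.pos_of_ne_zero (by rw [hD]; exact pow_ne_zero _ hp.out.ne_zero))
    (index_dvd_of_le hle)
  rw [hD, h3] at h4
  have h5 := card_abelianization_ge hP Rj (c.range_ne_bot j)
  have := hp.out.pos
  nlinarith

end Cfsg.Agent.Lib.ChrP2.Components
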