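import Mathlib

/-!
Finite `p`-groups `P` with `[P : P'] = p²`: Frattini-type lemmas, the dichotomy for a normal subgroup
not contained in `P'`, and centralisers of order `p²`.
-/

set_option autoImplicit false
set_option linter.style.haveILetI false
set_option linter.unusedSectionVars false

namespace Cfsg.Agent.Lib.ChrP2.PGroup

open Subgroup
open scoped commutatorElement

variable {P : Type*} [Group P] [Finite P] {p : ℕ} [hp : Fact p.Prime]

omit [Finite P] in
theorem normal_of_gen {Q L : Subgroup P} {y : P} (hgen : Q ⊔ zpowers y = ⊤)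
    (hQ : Q ≤ normalizer (L : Set P)) (hy : y ∈ normalizer (L : Set P)) : L.Normal :=
  normalizer_eq_top_iff.1 (top_le_iff.1 (hgen ▸ sup_le hQ (zpowers_le.2 hy)))

omit [Finite P] in
/-- Criterion for containing the commutator subgroup. -/
theorem commutator_le_of_gen {Q L : Subgroup P} [L.Normal] {y : P} (hgen : Q ⊔ zpowers y = ⊤)
    (h1 : ∀ q ∈ Q, ⁅q, y⁆ ∈ L) (h2 : ∀ q ∈ Q, ∀ r ∈ Q, ⁅q, r⁆ ∈ L) : commutator P ≤ L := by
  let f := QuotientGroup.mk' L
  have key : ∀ a b : P, ⁅a, b⁆ ∈ L → Commute (f a) (f b) := fun a b h => by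
    rw [← commutatorElement_eq_one_iff_commute, ← map_commutatorElement]
    exact (QuotientGroup.eq_one_iff _).2 h
  have hcl : ∀ z : P, z ∈ closure ((Q : Set P) ∪ {y}) := by
    intro z
    rw [Subgroup.closure_union, closure_eq, ← zpowers_eq_closure, hgen]
    exact mem_top z
  have hb : ∀ a ∈ ((Q : Set P) ∪ {y}), ∀ b : P, Commute (f a) (f b) := by
    intro a ha b
    induction hcl b using closure_induction with
    | mem b hb =>
      rcases ha with ha | rfl <;> rcases hb with hb | rfl
      · exact key a b (h2 a ha b hb)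
      · exact key a _ (h1 a ha)
      · exact (key b _ (h1 b hb)).symm
      · exact Commute.refl _
    | one => rw [map_one]; exact Commute.one_right _
    | mul b c _ _ h h' => rw [map_mul]; exact h.mul_right h'
    | inv b _ h => rw [map_inv]; exact h.inv_right
  have hall : ∀ a b : P, Commute (f a) (f b) := by
    intro a b
    induction hcl a using closure_induction with
    | mem a ha => exact hb a ha b
    | one => rw [map_one]; exact Commute.one_left _
    | mul a c _ _ h h' => rw [map_mul]; exact h.mul_left h'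
    | inv a _ h => rw [map_inv]; exact h.inv_left
  rw [commutator_eq_closure, closure_le]
  rintro _ ⟨a, b, rfl⟩
  exact (QuotientGroup.eq_one_iff _).1 <| by
    show f ⁅a, b⁆ = 1
    rw [map_commutatorElement, commutatorElement_eq_one_iff_commute]
    exact hall a b

theorem sup_commutator_eq_top (hP : IsPGroup p P) {H : Subgroup P} (h : H ⊔ commutator P = ⊤) :
    H = ⊤ := by
  haveI := hP.isNilpotent
  by_contra hH
  obtain ⟨M, hM, hHM⟩ := (eq_top_or_exists_le_coatom H).resolve_left hH
  haveI : M.Normal := Subgroup.NormalizerCondition.normal_of_coatom M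
    Group.normalizerCondition_of_isNilpotent hM
  obtain ⟨y, hy⟩ : ∃ y, y ∉ M := by
    by_contra! hc
    exact hM.1 (eq_top_iff.2 fun x _ => hc x)
  have hgen : M ⊔ zpowers y = ⊤ := hM.2 _ (lt_of_le_of_ne le_sup_left fun e => hy
    (e ▸ mem_sup_right (mem_zpowers y)))
  have hd : commutator P ≤ M := commutator_le_of_gen hgen
    (fun q hq => by
      rw [commutatorElement_def, mul_assoc, mul_assoc, ← mul_assoc y]
      exact M.mul_mem hq (Normal.conj_mem ‹_› _ (M.inv_mem hq) y))
    (fun q hq r hr => by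
      rw [commutatorElement_def]
      exact M.mul_mem (M.mul_mem (M.mul_mem hq hr) (M.inv_mem hq)) (M.inv_mem hr))
  exact hM.1 (top_le_iff.1 (h ▸ sup_le hHM hd))

omit [Finite P] hp in
theorem index_eq_mul {H K : Subgroup P} (h : H ≤ K) : H.index = H.relIndex K * K.index :=
  (relIndex_mul_index h).symm

theorem index_ne_one_dvd (hP : IsPGroup p P) {H : Subgroup P} (h : H ≠ ⊤) : p ∣ H.index := by
  obtain ⟨n, hn⟩ := hP.index H
  rcases n with _ | n
  · exact absurd (index_eq_one.1 (by simpa using hn)) h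
  · exact hn ▸ dvd_pow_self p n.succ_ne_zero

theorem sup_zpowers_eq_top {H : Subgroup P} (hi : H.index = p) {y : P} (hy : y ∉ H) :
    H ⊔ zpowers y = ⊤ := by
  have h := relIndex_mul_index (le_sup_left : H ≤ H ⊔ zpowers y)
  rw [hi] at h
  rcases (Nat.dvd_prime hp.out).1 (Dvd.intro_left _ h) with h' | h'
  · exact index_eq_one.1 h'
  · rw [h'] at h
    have : H.relIndex (H ⊔ zpowers y) = 1 := by
      have := hp.out.pos
      nlinarith
    exact absurd (relIndex_eq_one.1 this (mem_sup_right (mem_zpowers y))) hy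

/-- A `p`-group that is not trivial modulo commutators has index at least `p²`, unless cyclic. -/
theorem index_commutator_ge (hP : IsPGroup p P) (h : p ^ 2 ≤ Nat.card P) :
    p ^ 2 ≤ (commutator P).index := by
  obtain ⟨n, hn⟩ := hP.index (commutator P)
  rw [hn]
  refine Nat.pow_le_pow_right hp.out.pos ?_
  by_contra hlt
  obtain ⟨H, hHa, hHt⟩ : ∃ H : Subgroup P, (∀ a ∈ H, ∀ b ∈ H, a * b = b * a) ∧ H = ⊤ := by
    have hn' : n = 0 ∨ n = 1 := by omega
    rcases hn' with rfl | rfl
    · refine ⟨⊥, fun a ha b hb => by simp [mem_bot.1 ha, mem_bot.1 hb], sup_commutator_eq_top hP ?_⟩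
      rw [bot_sup_eq]
      exact index_eq_one.1 (by simpa using hn)
    · rw [pow_one] at hn
      obtain ⟨y, hy⟩ : ∃ y, y ∉ commutator P := by
        by_contra! hc
        rw [index_eq_one.2 (eq_top_iff.2 fun x _ => hc x)] at hn
        exact hp.out.one_lt.ne hn
      refine ⟨zpowers y, fun a ha b hb => ?_, sup_commutator_eq_top hP ?_⟩
      · obtain ⟨i, rfl⟩ := mem_zpowers_iff.1 ha
        obtain ⟨j, rfl⟩ := mem_zpowers_iff.1 hb
        exact (Commute.zpow_zpow (Commute.refl y) i j).eq
      · rw [sup_comm]; exact sup_zpowers_eq_top hn hy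
  have hbot : commutator P = ⊥ := by
    rw [commutator_eq_closure, closure_eq_bot_iff]
    rintro _ ⟨a, b, rfl⟩
    exact commutatorElement_eq_one_iff_mul_comm.2
      (hHa a (hHt ▸ mem_top a) b (hHt ▸ mem_top b))
  rw [hbot, index_bot] at hn
  rw [hn] at h
  exact hlt ((Nat.pow_le_pow_iff_right hp.out.one_lt).1 h)

/-- The conjugacy class of `y` has at most `|P'|` elements. -/
theorem index_le_card_centralizer (y : P) :
    (commutator P).index ≤ Nat.card (centralizer ({y} : Set P)) := by
  set C := centralizer ({y} : Set P)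
  let f : P ⧸ C → (commutator P : Subgroup P) := Quotient.lift
    (fun z => (⟨⁅z, y⁆, commutator_mem_commutator (mem_top z) (mem_top y)⟩ : commutator P))
    (fun a b hab => by
      have h : a⁻¹ * b ∈ C := QuotientGroup.leftRel_apply.1 hab
      have hc : (a⁻¹ * b) * y = y * (a⁻¹ * b) := mem_centralizer_singleton_iff.1 h
      refine Subtype.ext ?_
      show a * y * a⁻¹ * y⁻¹ = b * y * b⁻¹ * y⁻¹
      congr 1
      calc a * y * a⁻¹ = a * (y * (a⁻¹ * b)) * b⁻¹ := by group
        _ = b * y * b⁻¹ := by rw [← hc]; group)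
  have hf : Function.Injective f := by
    intro u v
    induction u using Quotient.inductionOn with | h a => ?_
    induction v using Quotient.inductionOn with | h b => ?_
    intro h
    have h' : a * y * a⁻¹ * y⁻¹ = b * y * b⁻¹ * y⁻¹ := congrArg Subtype.val h
    refine Quotient.sound (QuotientGroup.leftRel_apply.2 (mem_centralizer_singleton_iff.2 ?_))
    calc a⁻¹ * b * y = a⁻¹ * (b * y * b⁻¹) * b := by group
      _ = y * (a⁻¹ * b) := by rw [← mul_right_cancel h']; group
  have h1 : C.index ≤ Nat.card (commutator P) := Nat.card_le_card_of_injective f hf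
  have h2 := (commutator P).card_mul_index
  have h3 := C.card_mul_index
  have h4 : 0 < Nat.card (commutator P) := Nat.card_pos
  refine le_of_mul_le_mul_left (a := Nat.card (commutator P)) ?_ h4
  rw [h2, ← h3, mul_comm]
  exact Nat.mul_le_mul_right _ h1

/-- Dichotomy for a normal subgroup not inside `P'`. -/
theorem dichotomy (hP : IsPGroup p P) (hD : (commutator P).index = p ^ 2) (Q : Subgroup P)
    [Q.Normal] (hQ : ¬ Q ≤ commutator P) :
    Q = ⊤ ∨ (Q.index = p ∧ commutator P ≤ Q ∧ (commutator P).relIndex Q = p) := by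
  by_cases htop : Q ⊔ commutator P = ⊤
  · exact Or.inl (sup_commutator_eq_top hP htop)
  right
  have h := index_eq_mul (le_sup_right : commutator P ≤ Q ⊔ commutator P)
  rw [hD] at h
  obtain ⟨a, ha⟩ := index_ne_one_dvd hP htop
  have hr1 : (commutator P).relIndex (Q ⊔ commutator P) ≠ 1 := fun e =>
    hQ (le_sup_left.trans (relIndex_eq_one.1 e))
  have hdvd : (commutator P).relIndex (Q ⊔ commutator P) * a = p := by
    rw [ha] at h
    have := hp.out.pos
    nlinarith [h]
  have hrp := ((Nat.dvd_prime hp.out).1 (Dvd.intro _ hdvd)).resolve_left hr1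
  have hQD : (Q ⊔ commutator P).index = p := by
    rw [hrp] at h
    have := hp.out.pos
    nlinarith
  obtain ⟨y, hy⟩ : ∃ y, y ∉ Q ⊔ commutator P := by
    by_contra! hc
    exact htop (eq_top_iff.2 fun x _ => hc x)
  have hgen : Q ⊔ zpowers y = ⊤ := by
    refine sup_commutator_eq_top hP ?_
    rw [sup_assoc, sup_comm (zpowers y), ← sup_assoc]
    exact sup_zpowers_eq_top hQD hy
  have hle : commutator P ≤ Q := commutator_le_of_gen hgen
    (fun q hq => by
      rw [commutatorElement_def, mul_assoc, mul_assoc, ← mul_assoc y]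
      exact Q.mul_mem hq (Normal.conj_mem ‹_› _ (Q.inv_mem hq) y))
    (fun q hq r hr => by
      rw [commutatorElement_def]
      exact Q.mul_mem (Q.mul_mem (Q.mul_mem hq hr) (Q.inv_mem hq)) (Q.inv_mem hr))
  rw [sup_of_le_left hle] at hQD hrp
  exact ⟨hQD, hle, hrp⟩

/-- Outside an abelian subgroup of index `p` the centralisers have order `p²`. -/
theorem card_centralizer_le (hD : (commutator P).index = p ^ 2) (Q : Subgroup P) [Q.Normal]
    (hQi : Q.index = p) (hab : ∀ a ∈ Q, ∀ b ∈ Q, a * b = b * a) {y : P} (hy : y ∉ Q) :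
    Nat.card (centralizer ({y} : Set P)) ≤ p ^ 2 := by
  have hgen := sup_zpowers_eq_top hQi hy
  let f : Q →* P := MonoidHom.mk' (fun q => ⁅(q : P), y⁆) fun q r => by
    have hr : (y * (r : P)⁻¹ * y⁻¹) ∈ Q := Normal.conj_mem ‹_› _ (Q.inv_mem r.2) y
    simp only [Subgroup.coe_mul, commutatorElement_def]
    calc (q : P) * r * y * ((q : P) * r)⁻¹ * y⁻¹
        = q * (r * ((y * (r : P)⁻¹ * y⁻¹) * (y * (q : P)⁻¹ * y⁻¹))) := by group
      _ = q * ((r * (y * (r : P)⁻¹ * y⁻¹)) * (y * (q : P)⁻¹ * y⁻¹)) := by group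
      _ = q * ((y * (q : P)⁻¹ * y⁻¹) * (r * (y * (r : P)⁻¹ * y⁻¹))) := by
          rw [hab _ (Q.mul_mem r.2 hr) _ (Normal.conj_mem ‹_› _ (Q.inv_mem q.2) y)]
      _ = _ := by group
  have hfQ : f.range ≤ Q := by
    rintro _ ⟨q, rfl⟩
    show (q : P) * y * (q : P)⁻¹ * y⁻¹ ∈ Q
    rw [mul_assoc, mul_assoc, ← mul_assoc y]
    exact Q.mul_mem q.2 (Normal.conj_mem ‹_› _ (Q.inv_mem q.2) y)
  have hLn : f.range.Normal := by
    refine normal_of_gen hgen ?_ ?_
    · intro r hr
      refine mem_normalizer_iff.2 fun x => ⟨fun hx => ?_, fun hx => ?_⟩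
      · rw [hab r hr x (hfQ hx), mul_inv_cancel_right]; exact hx
      · have h1 : r * x * r⁻¹ ∈ Q := hfQ hx
        have h2 := hab r hr _ h1
        have : x = r * x * r⁻¹ := by
          calc x = r⁻¹ * ((r * x * r⁻¹) * r) := by group
            _ = r * x * r⁻¹ := by rw [← h2]; group
        rw [this]; exact hx
    · refine mem_normalizer_iff.2 fun x => ⟨?_, ?_⟩
      · rintro ⟨q, rfl⟩
        exact ⟨⟨y * q * y⁻¹, Normal.conj_mem ‹_› _ q.2 y⟩, by
          simp [f, commutatorElement_def, mul_assoc]⟩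
      · rintro ⟨q, hq⟩
        refine ⟨⟨y⁻¹ * q * y, by simpa using Normal.conj_mem ‹_› _ q.2 y⁻¹⟩, ?_⟩
        have hq' : (q : P) * y * (q : P)⁻¹ * y⁻¹ = y * x * y⁻¹ := hq
        calc f _ = y⁻¹ * ((q : P) * y * (q : P)⁻¹ * y⁻¹) * y := by
              simp [f, commutatorElement_def, mul_assoc]
          _ = x := by rw [hq']; group
  have hDL : commutator P ≤ f.range := commutator_le_of_gen hgen
    (fun q hq => ⟨⟨q, hq⟩, rfl⟩)
    (fun q hq r hr => by
      rw [commutatorElement_eq_one_iff_mul_comm.2 (hab q hq r hr)]; exact one_mem _)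
  have hker : Nat.card f.ker ≤ p := by
    have h1 : Nat.card f.ker * f.ker.index = Nat.card Q := f.ker.card_mul_index
    have h2 : f.ker.index = Nat.card f.range :=
      Nat.card_congr (QuotientGroup.quotientKerEquivRange f).toEquiv
    have h3 := Subgroup.card_le_of_le hDL
    have h4 := (commutator P).card_mul_index
    have h5 := Q.card_mul_index
    rw [hD] at h4
    rw [hQi] at h5
    have h6 : 0 < Nat.card (commutator P) := Nat.card_pos
    have h7 : Nat.card Q = Nat.card (commutator P) * p :=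
      Nat.eq_of_mul_eq_mul_right hp.out.pos (by rw [h5, ← h4]; ring)
    rw [h2, h7] at h1
    by_contra hlt
    nlinarith
  set C := centralizer ({y} : Set P)
  have hCQ : Nat.card (Q.subgroupOf C) ≤ p := by
    refine le_trans ?_ hker
    refine Nat.card_le_card_of_injective
      (fun c => (⟨⟨((c : C) : P), c.2⟩, ?_⟩ : f.ker)) fun a b h => ?_
    · show ⁅((c : C) : P), y⁆ = 1
      exact commutatorElement_eq_one_iff_mul_comm.2 (mem_centralizer_singleton_iff.1 c.1.2)
    · exact Subtype.ext (Subtype.ext (congrArg (fun z : f.ker => ((z : Q) : P)) h))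
  have hrel : (Q.subgroupOf C).index ≤ p := by
    rw [← hQi]
    exact Nat.le_of_dvd (Nat.pos_of_ne_zero Q.index_ne_zero_of_finite)
      (relIndex_dvd_index_of_normal Q C)
  calc Nat.card C = Nat.card (Q.subgroupOf C) * (Q.subgroupOf C).index :=
        (Q.subgroupOf C).card_mul_index.symm
    _ ≤ p * p := Nat.mul_le_mul hCQ hrel
    _ = p ^ 2 := (sq p).symm

end Cfsg.Agent.Lib.ChrP2.PGroup
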